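import Mathlib
import Groth.Prelude.Def_NonAbH2
import Groth.Agent.SchDescent.Cover
import Groth.Agent.FpqcDescent.Basic

/-!
# Properties of fpqc torsors descend from the group

`of_isTorsorFor`: a property of morphisms stable under base change, local on the target and
descending along fpqc morphisms passes from `G` to every fpqc torsor under `G`.
-/

set_option autoImplicit false
set_option linter.style.haveILetI false
set_option backward.isDefEq.respectTransparency.types false

noncomputable section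

open AlgebraicGeometry CategoryTheory CategoryTheory.Limits MonoidalCategory CartesianMonoidalCategory

namespace Groth.Agent.TorsorDesc

universe u

variable {S : Scheme.{u}} {G X : Over S} [GrpObj G]

/-- a pseudo torsor with a point over `T` is isomorphic to the group over `T` -/
theorem exists_iso (a : AlgGrp.Action G X) (h : NonAbH1.IsPseudoTorsorSch a) {T : Over S} (σ : T ⟶ X) :
    ∃ φ : G ⊗ T ≅ X ⊗ T, φ.hom ≫ snd X T = snd G T := by
  haveI : IsIso (lift a.act (snd G X)) := h
  let e := lift a.act (snd G X)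
  let φ : G ⊗ T ⟶ X ⊗ T := lift ((G ◁ σ) ≫ a.act) (snd G T)
  let ψ : X ⊗ T ⟶ G ⊗ T := lift ((X ◁ σ) ≫ inv e ≫ fst G X) (snd X T)
  have h1 : φ ≫ (X ◁ σ) = (G ◁ σ) ≫ e := by
    apply CartesianMonoidalCategory.hom_ext
    · simp only [φ, e, Category.assoc, whiskerLeft_fst, lift_fst]
    · simp only [φ, e, Category.assoc, whiskerLeft_snd, lift_snd, lift_snd_assoc]
  have hie : inv e ≫ snd G X = snd X X := by
    rw [IsIso.inv_comp_eq]; simp only [e, lift_snd]
  have h2 : ψ ≫ (G ◁ σ) = (X ◁ σ) ≫ inv e := by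
    apply CartesianMonoidalCategory.hom_ext
    · simp only [ψ, Category.assoc, whiskerLeft_fst, lift_fst]
    · simp only [ψ, Category.assoc, whiskerLeft_snd, lift_snd_assoc, hie]
  have h3 : φ ≫ ψ = 𝟙 _ := by
    apply CartesianMonoidalCategory.hom_ext
    · simp only [ψ, Category.assoc, lift_fst, Category.id_comp]
      rw [reassoc_of% h1, IsIso.hom_inv_id_assoc, whiskerLeft_fst]
    · simp only [φ, ψ, Category.assoc, lift_snd, Category.id_comp]
  have hie' : inv e ≫ a.act = fst X X := by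
    rw [IsIso.inv_comp_eq]; simp only [e, lift_fst]
  have h4 : ψ ≫ φ = 𝟙 _ := by
    apply CartesianMonoidalCategory.hom_ext
    · simp only [φ, Category.assoc, lift_fst, Category.id_comp]
      rw [reassoc_of% h2, hie', whiskerLeft_fst]
    · simp only [φ, ψ, Category.assoc, lift_snd, Category.id_comp]
  exact ⟨⟨φ, ψ, h3, h4⟩, lift_snd _ _⟩

theorem pullback_snd_of_section {P : MorphismProperty Scheme.{u}} [P.IsStableUnderBaseChange]
    [P.RespectsIso] (a : AlgGrp.Action G X) (h : NonAbH1.IsPseudoTorsorSch a) (hG : P G.hom)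
    {S' : Scheme.{u}} (f : S' ⟶ S) (s : S' ⟶ X.left) (hs : s ≫ X.hom = f) :
    P (pullback.snd X.hom f) := by
  obtain ⟨φ, hφ⟩ := exists_iso a h (Over.homMk s hs : Over.mk f ⟶ X)
  let φ' : pullback G.hom f ≅ pullback X.hom f := (Over.forget S).mapIso φ
  have hφ' : φ'.hom ≫ pullback.snd X.hom f = pullback.snd G.hom f := congrArg (fun m => m.left) hφ
  rw [← P.cancel_left_of_respectsIso φ'.hom, hφ']
  exact P.of_isPullback (IsPullback.of_hasPullback G.hom f) hG

/-- properties of `G` pass to fpqc torsors under `G` -/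
theorem of_isTorsorFor (P : MorphismProperty Scheme.{u}) [P.IsStableUnderBaseChange]
    [IsZariskiLocalAtTarget P] [P.DescendsAlong (@Surjective ⊓ @Flat ⊓ @QuasiCompact)]
    (a : AlgGrp.Action G X) (h : NonAbH1.IsTorsorFor Scheme.fpqcPrecoverage a) (hG : P G.hom) :
    P X.hom := by
  obtain ⟨hps, R, hR, hsecR⟩ := h
  let κ := {q : Σ Y : Scheme.{u}, Y ⟶ S // R q.2}
  let K : κ → Scheme.{u} := fun i => i.1.1
  let z : ∀ i : κ, K i ⟶ S := fun i => i.1.2
  have hsec : ∀ i, NonAbH1.HasSectionOver X (z i) := fun i => hsecR _ i.2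
  have hcov : SchDescent.IsCover z := by
    have : Presieve.ofArrows K z = R := by
      funext Y
      ext g
      exact ⟨fun ⟨i⟩ => i.2, fun hg => Presieve.ofArrows.mk (⟨⟨Y, g⟩, hg⟩ : κ)⟩
    show Presieve.ofArrows K z ∈ _
    rw [this]
    exact hR
  refine (IsZariskiLocalAtTarget.iff_of_iSup_eq_top (P := P) _ (iSup_affineOpens_eq_top S)).2 fun U => ?_
  obtain ⟨n, c, V, hV, hVU⟩ := SchDescent.exists_finite hcov U.2
  let W : Fin n → Scheme.{u} := fun m => (V m : Scheme.{u})
  have hle : ∀ m, V m ≤ z (c m) ⁻¹ᵁ U.1 := fun m v hv =>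
    hVU.le (Set.mem_iUnion.mpr ⟨m, v, hv, rfl⟩)
  let q : ∀ m, W m ⟶ U.1 := fun m => (z (c m)).resLE U.1 (V m) (hle m)
  haveI : ∀ m, Flat (q m) := fun m => by
    haveI : Flat (z (c m)) := SchDescent.flat_of_isCover hcov (c m)
    haveI : IsOpenImmersion (V m).ι := (V m).instIsOpenImmersionι
    haveI : Flat ((V m).ι ≫ z (c m)) := inferInstance
    haveI : IsOpenImmersion U.1.ι := U.1.instIsOpenImmersionι
    have : Flat (q m ≫ U.1.ι) := by rw [Scheme.Hom.resLE_comp_ι]; infer_instance
    exact MorphismProperty.of_postcomp (W := @Flat) (W' := @IsOpenImmersion) (q m) U.1.ι ‹_› this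
  haveI : ∀ m, IsAffine (W m) := hV
  haveI : IsAffine U.1.toScheme := U.2
  let p : (∐ W) ⟶ U.1 := Sigma.desc q
  haveI : Flat p := IsZariskiLocalAtSource.sigmaDesc (P := @Flat) ‹_›
  haveI : CompactSpace ↥(∐ W) := inferInstance
  haveI : QuasiCompact p := inferInstance
  haveI : Surjective p := ⟨fun u => by
    obtain ⟨m, v, hv, hvu⟩ : ∃ m, ∃ v ∈ V m, z (c m) v = u.1 := by
      have := hVU.ge u.2
      simpa using this
    refine ⟨Sigma.ι W m ⟨v, hv⟩, ?_⟩
    rw [← Scheme.Hom.comp_apply, Sigma.ι_desc]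
    apply U.1.ι.isOpenEmbedding.injective
    rw [← Scheme.Hom.comp_apply, Scheme.Hom.resLE_comp_ι, Scheme.Hom.comp_apply]
    exact hvu⟩
  choose s hs using hsec
  let sec : (∐ W) ⟶ X.left := Sigma.desc fun m => (V m).ι ≫ s (c m)
  have hsec' : sec ≫ X.hom = p ≫ U.1.ι := by
    apply Sigma.hom_ext
    intro m
    simp only [sec, p, Sigma.ι_desc_assoc, Category.assoc, hs]
    exact (Scheme.Hom.resLE_comp_ι _ _).symm
  have key := pullback_snd_of_section (P := P) a hps hG (p ≫ U.1.ι) sec hsec'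
  have sq : IsPullback (pullback.snd X.hom (p ≫ U.1.ι))
      ((isPullback_morphismRestrict X.hom U.1).lift (pullback.snd X.hom (p ≫ U.1.ι) ≫ p)
        (pullback.fst X.hom (p ≫ U.1.ι)) (by rw [Category.assoc, pullback.condition]))
      p (X.hom ∣_ U.1) := by
    refine IsPullback.of_bot (v₂₁ := (X.hom ⁻¹ᵁ U.1).ι) ?_ ?_ (isPullback_morphismRestrict X.hom U.1)
    · rw [IsPullback.lift_snd]
      exact (IsPullback.of_hasPullback X.hom (p ≫ U.1.ι)).flip
    · rw [IsPullback.lift_fst]
  exact MorphismProperty.of_isPullback_of_descendsAlong (P := P)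
    (Q := @Surjective ⊓ @Flat ⊓ @QuasiCompact) sq ⟨⟨‹_›, ‹_›⟩, ‹_›⟩ key

end Groth.Agent.TorsorDesc
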