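import Mathlib
import Groth.Prelude.Def_ActBC

/-!
# Torsors in terms of points, and their base change
-/

set_option autoImplicit false
set_option backward.isDefEq.respectTransparency.types false

noncomputable section

open AlgebraicGeometry CategoryTheory CategoryTheory.Limits MonoidalCategory CartesianMonoidalCategory MonObj

namespace Groth.Agent.TorsorDesc

universe u

variable {S : Scheme.{u}} {G X Y : Over S} [GrpObj G]

/-- Action on points. -/
def act (a : AlgGrp.Action G X) {T : Over S} (g : T ⟶ G) (x : T ⟶ X) : T ⟶ X := lift g x ≫ a.act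

theorem comp_act (a : AlgGrp.Action G X) {T T' : Over S} (w : T' ⟶ T) (g : T ⟶ G) (x : T ⟶ X) :
    w ≫ act a g x = act a (w ≫ g) (w ≫ x) := by
  rw [act, act, comp_lift_assoc]

theorem act_act (a : AlgGrp.Action G X) {T : Over S} (g h : T ⟶ G) (x : T ⟶ X) :
    act a g (act a h x) = act a (g * h) x := by
  have h1 : lift g (lift h x) ≫ (G ◁ a.act) = lift g (lift h x ≫ a.act) := lift_whiskerLeft _ _ _
  have h2 : lift (g * h) x = lift (lift g h) x ≫ (μ[G] ▷ X) := by
    rw [lift_whiskerRight]; rfl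
  have h3 : lift (lift g h) x ≫ (α_ G G X).hom = lift g (lift h x) := by
    apply CartesianMonoidalCategory.hom_ext <;> simp
  rw [act, act, act, h2, Category.assoc, a.mul_act, reassoc_of% h3, reassoc_of% h1]

variable {a : AlgGrp.Action G X}

/-- The unique `g` with `g • q = p`. -/
def div (h : NonAbH1.IsPseudoTorsorSch a) {T : Over S} (p q : T ⟶ X) : T ⟶ G :=
  haveI : IsIso (lift a.act (snd G X)) := h
  lift p q ≫ inv (lift a.act (snd G X)) ≫ fst G X

theorem act_div (h : NonAbH1.IsPseudoTorsorSch a) {T : Over S} (p q : T ⟶ X) :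
    act a (div h p q) q = p := by
  haveI : IsIso (lift a.act (snd G X)) := h
  have h1 : inv (lift a.act (snd G X)) ≫ snd G X = snd X X := by
    rw [IsIso.inv_comp_eq]; simp
  have h2 : lift (div h p q) q = lift p q ≫ inv (lift a.act (snd G X)) := by
    apply CartesianMonoidalCategory.hom_ext
    · simp [div]
    · simp [h1]
  have h3 : inv (lift a.act (snd G X)) ≫ a.act = fst X X := by
    rw [IsIso.inv_comp_eq]; simp
  rw [act, h2, Category.assoc, h3, lift_fst]

theorem div_act (h : NonAbH1.IsPseudoTorsorSch a) {T : Over S} (g : T ⟶ G) (q : T ⟶ X) :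
    div h (act a g q) q = g := by
  haveI : IsIso (lift a.act (snd G X)) := h
  have h1 : lift (act a g q) q = lift g q ≫ lift a.act (snd G X) := by
    apply CartesianMonoidalCategory.hom_ext <;> simp [act]
  rw [div, h1, Category.assoc, IsIso.hom_inv_id_assoc, lift_fst]

theorem comp_div (h : NonAbH1.IsPseudoTorsorSch a) {T T' : Over S} (w : T' ⟶ T) (p q : T ⟶ X) :
    w ≫ div h p q = div h (w ≫ p) (w ≫ q) := by
  simp only [div, ← comp_lift, Category.assoc]

/-- torsors for a topology have equivalence relation "equivariantly isomorphic" -/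
theorem equivalence_equivIso (K : Precoverage Scheme.{u}) :
    Equivalence fun P Q : NonAbH1.TorsorSch G K => Nonempty (NonAbH1.EquivIso P.act Q.act) where
  refl P := ⟨⟨Iso.refl _, by simp⟩⟩
  symm := fun {P Q} ⟨e⟩ => ⟨⟨e.iso.symm, by
    rw [← cancel_mono e.iso.hom, Category.assoc, Category.assoc, e.comm, ← MonoidalCategory.whiskerLeft_comp_assoc]
    simp⟩⟩
  trans := fun {P Q R} ⟨e⟩ ⟨e'⟩ => ⟨⟨e.iso ≪≫ e'.iso, by
    rw [Iso.trans_hom, MonoidalCategory.whiskerLeft_comp, Category.assoc, ← e'.comm, reassoc_of% e.comm]⟩⟩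

theorem nonempty_equivIso_of_cl_eq {K : Precoverage Scheme.{u}} {P Q : NonAbH1.TorsorSch G K}
    (h : P.cl = Q.cl) : Nonempty (NonAbH1.EquivIso P.act Q.act) :=
  ((equivalence_equivIso K).quot_mk_eq_iff _ _).mp h

variable {S' : Scheme.{u}} (c : S' ⟶ S) {b : AlgGrp.Action G Y}

/-- A morphism of base changes, acting on points with values in `S'`-schemes. -/
def ptMap (φ : Red.bc c X ⟶ Red.bc c Y) {T' : Over S'} (x : (Over.map c).obj T' ⟶ X) :
    (Over.map c).obj T' ⟶ Y :=
  ((Over.mapPullbackAdj c).homEquiv T' Y).symm (((Over.mapPullbackAdj c).homEquiv T' X x) ≫ φ)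

omit [GrpObj G] in
theorem ptMap_natural (φ : Red.bc c X ⟶ Red.bc c Y) {T' T'' : Over S'} (q : T'' ⟶ T')
    (x : (Over.map c).obj T' ⟶ X) : (Over.map c).map q ≫ ptMap c φ x = ptMap c φ ((Over.map c).map q ≫ x) := by
  simp only [ptMap, Adjunction.homEquiv_naturality_left, ← Adjunction.homEquiv_naturality_left_symm, Category.assoc]

theorem ptMap_act (φ : Red.bc c X ⟶ Red.bc c Y) (hφ : (a.bc c).act ≫ φ = (Red.bc c G ◁ φ) ≫ (b.bc c).act)
    {T' : Over S'} (g : (Over.map c).obj T' ⟶ G) (x : (Over.map c).obj T' ⟶ X) :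
    ptMap c φ (act a g x) = act b g (ptMap c φ x) := by
  simp only [ptMap, act]
  apply ((Over.mapPullbackAdj c).homEquiv T' Y).injective
  rw [← AlgGrp.Action.lift_homEquiv_bc_act, ← AlgGrp.Action.lift_homEquiv_bc_act, Equiv.apply_symm_apply,
    Equiv.apply_symm_apply, Category.assoc, hφ, lift_whiskerLeft_assoc]

end Groth.Agent.TorsorDesc
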