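import Mathlib
import Groth.Agent.TorsorDesc.Points
import Groth.Agent.SchDescent.Cover

/-!
# Equivariant morphisms of fpqc torsors are isomorphisms
-/

set_option autoImplicit false
set_option backward.isDefEq.respectTransparency.types false

noncomputable section

open AlgebraicGeometry CategoryTheory CategoryTheory.Limits MonoidalCategory CartesianMonoidalCategory MonObj

namespace Groth.Agent.TorsorDesc

universe u

variable {S : Scheme.{u}}

theorem exists_cover {X : Over S} (h : NonAbH1.IsLocallyTrivialFor Scheme.fpqcPrecoverage X) :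
    ∃ (κ : Type (u+1)) (W : κ → Scheme.{u}) (z : ∀ i, W i ⟶ S), SchDescent.IsCover z ∧
      ∀ i, Nonempty (Over.mk (z i) ⟶ X) := by
  obtain ⟨R, hR, hsec⟩ := h
  refine ⟨{q : Σ Y : Scheme.{u}, Y ⟶ S // R q.2}, fun i => i.1.1, fun i => i.1.2, ?_, fun i => ?_⟩
  · change Presieve.ofArrows _ _ ∈ _
    convert hR
    funext Y; ext g
    exact ⟨fun ⟨i⟩ => i.2, fun hg => Presieve.ofArrows.mk (⟨⟨Y, g⟩, hg⟩ : {q : Σ W : Scheme.{u}, W ⟶ S // R q.2})⟩
  · obtain ⟨s, hs⟩ := hsec _ i.2
    exact ⟨Over.homMk s hs⟩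

/-- A morphism bijective on points over the members of an fpqc cover is an isomorphism. -/
theorem isIso_of_locally_bijective {A B : Over S} (f : A ⟶ B) {κ : Type*} {W : κ → Scheme.{u}}
    {z : ∀ i, W i ⟶ S} (hz : SchDescent.IsCover z)
    (h : ∀ (i : κ) (T : Over S) (_ : T ⟶ Over.mk (z i)), Function.Bijective fun x : T ⟶ A => x ≫ f) :
    IsIso f := by
  have hc : ∀ T : Over S, SchDescent.IsCover fun i => pullback.fst T.hom (z i) :=
    fun T => SchDescent.isCover_pullback hz T.hom
  let P : ∀ (T : Over S) (i : κ), Over S := fun T i => Over.mk (pullback.fst T.hom (z i) ≫ T.hom)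
  let pr : ∀ (T : Over S) (i : κ), P T i ⟶ T := fun T i => Over.homMk (pullback.fst _ _) rfl
  let toW : ∀ (T : Over S) (i : κ), P T i ⟶ Over.mk (z i) := fun T i =>
    Over.homMk (pullback.snd T.hom (z i)) pullback.condition.symm
  have hext : ∀ {T Z : Over S} {a b : T ⟶ Z}, (∀ i, pr T i ≫ a = pr T i ≫ b) → a = b := fun {T Z a b} e =>
    Over.OverMorphism.ext (SchDescent.hom_ext (hc T) fun i => congr(CommaMorphism.left $(e i)))
  have hmono : ∀ {T : Over S} (a b : T ⟶ A), a ≫ f = b ≫ f → a = b := fun {T} a b e =>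
    hext fun i => (h i _ (toW T i)).1 (by simp only [Category.assoc, e])
  choose x hx using fun i => (h i _ (toW B i)).2 (pr B i)
  obtain ⟨t, ht, -⟩ := SchDescent.existsUnique_glue (hc B) (fun i => (x i).left) fun i j T p q hpq => by
    let T' : Over S := Over.mk (p ≫ pullback.fst B.hom (z i) ≫ B.hom)
    let p' : T' ⟶ P B i := Over.homMk p rfl
    let q' : T' ⟶ P B j := Over.homMk q (by
      change q ≫ pullback.fst B.hom (z j) ≫ B.hom = p ≫ pullback.fst B.hom (z i) ≫ B.hom
      rw [reassoc_of% hpq])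
    refine congr(CommaMorphism.left $(hmono (p' ≫ x i) (q' ≫ x j) ?_))
    simp only [Category.assoc, hx]
    exact Over.OverMorphism.ext hpq
  let t' : B ⟶ A := Over.homMk t (SchDescent.hom_ext (hc B) fun i => by
    rw [reassoc_of% (ht i), Over.w (x i)]; rfl)
  have h2 : t' ≫ f = 𝟙 B := hext fun i => by
    have : pr B i ≫ t' = x i := Over.OverMorphism.ext (ht i)
    rw [reassoc_of% this, Category.comp_id]; exact hx i
  exact ⟨⟨t', hmono _ _ (by rw [Category.assoc, h2, Category.comp_id, Category.id_comp]), h2⟩⟩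

variable {G G' X Y : Over S} [GrpObj G] [GrpObj G'] {a : AlgGrp.Action G X} {b : AlgGrp.Action G' Y}

theorem one_act (a : AlgGrp.Action G X) {T : Over S} (x : T ⟶ X) : act a 1 x = x := by
  have h1 : lift (1 : T ⟶ G) x = lift (toUnit T) x ≫ (η[G] ▷ X) := by
    rw [lift_whiskerRight]; rfl
  rw [act, h1, Category.assoc, a.one_act]
  simp

/-- A morphism of fpqc torsors equivariant along an isomorphism of the groups is an isomorphism. -/
theorem isIso_of_equivariant (hX : NonAbH1.IsTorsorFor Scheme.fpqcPrecoverage a)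
    (hY : NonAbH1.IsPseudoTorsorSch b) (g : G ⟶ G') [IsIso g] (f : X ⟶ Y)
    (hf : a.act ≫ f = lift (fst G X ≫ g) (snd G X ≫ f) ≫ b.act) : IsIso f := by
  obtain ⟨κ, W, z, hz, hsec⟩ := exists_cover hX.2
  have hf' : ∀ {T : Over S} (h : T ⟶ G) (x : T ⟶ X), act a h x ≫ f = act b (h ≫ g) (x ≫ f) := by
    intro T h x
    rw [act, act, Category.assoc, hf, comp_lift_assoc, lift_fst_assoc, lift_snd_assoc]
  refine isIso_of_locally_bijective f hz fun i T w => ⟨fun x x' e => ?_, fun y => ?_⟩
  · have h1 : act b (div hX.1 x x' ≫ g) (x' ≫ f) = act b (1 ≫ g) (x' ≫ f) := by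
      rw [← hf', ← hf', act_div, one_act]; exact e
    have h2 := congrArg (fun p => div hY p (x' ≫ f)) h1
    simp only [div_act] at h2
    rw [← act_div hX.1 x x', (cancel_mono g).mp h2, one_act]
  · let x0 := w ≫ (hsec i).some
    refine ⟨act a (div hY y (x0 ≫ f) ≫ inv g) x0, ?_⟩
    change act a _ x0 ≫ f = y
    rw [hf', Category.assoc, IsIso.inv_hom_id, Category.comp_id, act_div]

end Groth.Agent.TorsorDesc
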