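import Groth.Agent.DivPts.NormalIso
import Mathlib.AlgebraicGeometry.IdealSheaf.Subscheme
import Mathlib.AlgebraicGeometry.Morphisms.Separated

/-!
# Sections at the generic point of integral morphisms over normal schemes extend
-/

set_option backward.isDefEq.respectTransparency.types false

noncomputable section

universe u

open CategoryTheory AlgebraicGeometry Opposite TopologicalSpace

namespace Groth.Agent.TorsorDesc

open DivPts

variable {X X' : Scheme.{u}}

theorem exists_section_of_genericPoint [IsIntegral X] (hX : Pi1.IsNormalScheme X)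
    (g : X' ⟶ X) [IsIntegralHom g] (t : Spec (X.presheaf.stalk (genericPoint X)) ⟶ X')
    (htg : t ≫ g = X.fromSpecStalk (genericPoint X)) : ∃ s' : X ⟶ X', s' ≫ g = 𝟙 X := by
  have hpts : Subsingleton (Spec (X.presheaf.stalk (genericPoint X))) :=
    inferInstanceAs (Subsingleton (PrimeSpectrum X.functionField))
  haveI : QuasiCompact t := ⟨fun W _ _ => Set.Subsingleton.finite
    (fun a _ b _ => Subsingleton.elim a b) |>.isCompact⟩
  let p : t.image ⟶ X := t.imageι ≫ g
  haveI : IsIntegralHom p := inferInstance
  haveI : IsIso p := by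
    refine isIso_of_sections hX p fun V hV _ => ?_
    have hηV : genericPoint X ∈ V := (genericPoint_spec X).mem_open_set_iff V.2 |>.2 (by
      simpa using (Set.nonempty_coe_sort.1 (inferInstance : Nonempty V)))
    let W : X'.affineOpens := ⟨g ⁻¹ᵁ V, hV.preimage g⟩
    have htop : t ⁻¹ᵁ W.1 = ⊤ := by
      refine top_unique fun x _ => ?_
      show g (t x) ∈ V
      rw [← Scheme.Hom.comp_apply, htg]
      have : X.fromSpecStalk (genericPoint X) x = genericPoint X := by
        rw [Subsingleton.elim x (IsLocalRing.closedPoint _), Scheme.fromSpecStalk_closedPoint]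
      rw [this]
      exact hηV
    let iso : Γ(Spec (X.presheaf.stalk (genericPoint X)), t.toImage ⁻¹ᵁ (t.imageι ⁻¹ᵁ W.1)) ≅
        X.functionField :=
      (Spec (X.presheaf.stalk (genericPoint X))).presheaf.mapIso
        (eqToIso (show ⊤ = t.toImage ⁻¹ᵁ (t.imageι ⁻¹ᵁ W.1) by
          rw [← Scheme.Hom.comp_preimage, t.toImage_imageι, htop])).op ≪≫
        Scheme.ΓSpecIso _
    refine ⟨(t.toImage.app (t.imageι ⁻¹ᵁ W.1) ≫ iso.hom).hom, ?_, ?_⟩
    · exact iso.commRingCatIsoToRingEquiv.injective.comp (t.toImage_app_injective W)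
    · change (p.app V ≫ t.toImage.app (p ⁻¹ᵁ V) ≫ iso.hom).hom = _
      rw [← Category.assoc, ← Scheme.Hom.comp_app]
      have e : t.toImage ≫ p = X.fromSpecStalk (genericPoint X) := by
        rw [Scheme.Hom.toImage_imageι_assoc]; exact htg
      have hh := Scheme.Hom.congr_app e V
      rw [hh, Scheme.fromSpecStalk_app hηV]
      congr 1
      simp only [Category.assoc]
      have key : ∀ {A B : (Spec (X.presheaf.stalk (genericPoint X))).Opens} (i : op ⊤ ⟶ op A)
          (k : op A ⟶ op B) (l : op B ⟶ op ⊤),
          (Spec (X.presheaf.stalk (genericPoint X))).presheaf.map i ≫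
            (Spec (X.presheaf.stalk (genericPoint X))).presheaf.map k ≫
            (Spec (X.presheaf.stalk (genericPoint X))).presheaf.map l = 𝟙 _ := fun i k l => by
        rw [← Functor.map_comp, ← Functor.map_comp, Subsingleton.elim (i ≫ k ≫ l) (𝟙 _),
          CategoryTheory.Functor.map_id]
      simp only [iso, Iso.trans_hom, Functor.mapIso_hom, Iso.op_hom]
      have key' : ∀ {A B : (Spec (X.presheaf.stalk (genericPoint X))).Opens} (i : op ⊤ ⟶ op A)
          (k : op A ⟶ op B) (l : op B ⟶ op ⊤) (a : Γ(X, V) ⟶ X.presheaf.stalk (genericPoint X)),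
          (a ≫ (Scheme.ΓSpecIso (X.presheaf.stalk (genericPoint X))).inv ≫
            (Spec (X.presheaf.stalk (genericPoint X))).presheaf.map i ≫
            (Spec (X.presheaf.stalk (genericPoint X))).presheaf.map k) ≫
            (Spec (X.presheaf.stalk (genericPoint X))).presheaf.map l ≫
            (Scheme.ΓSpecIso (X.presheaf.stalk (genericPoint X))).hom = a := fun i k l a => by
        simp only [Category.assoc]
        rw [reassoc_of% (key i k l)]
        simp
      exact key' _ _ _ _
  exact ⟨inv p ≫ t.imageι, by simp [p]⟩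

end Groth.Agent.TorsorDesc
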