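import Groth.Agent.TorsorDesc.PushUnique
import Groth.Agent.SchDescent.Effective

/-!
# Push forward of torsors along homomorphisms of affine group schemes
-/

set_option autoImplicit false
set_option backward.isDefEq.respectTransparency false
set_option backward.isDefEq.respectTransparency.types false

noncomputable section

open AlgebraicGeometry CategoryTheory CategoryTheory.Limits MonoidalCategory CartesianMonoidalCategory MonObj

namespace Groth.Agent.TorsorDesc

universe u

variable {S : Scheme.{u}}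

theorem isIndQuasiAffineHom_of_affine {X Y : Scheme.{u}} (f : X ⟶ Y) [IsAffineHom f] :
    MoreMor.IsIndQuasiAffineHom f := fun V hV U hU => by
  haveI : IsAffine (f ⁻¹ᵁ V : Scheme.{u}) := hV.preimage f
  haveI : CompactSpace U.toScheme := isCompact_iff_compactSpace.mp hU
  exact Scheme.IsQuasiAffine.of_isImmersion U.ι

/-- morphisms defined by natural, choice independent values on the members of a cover -/
theorem exists_glue_pts {κ : Type*} {W : κ → Scheme.{u}} {z : ∀ k, W k ⟶ S} (hz : SchDescent.IsCover z)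
    {A B : Over S} (val : ∀ {k : κ} {T : Over S}, (T ⟶ Over.mk (z k)) → (T ⟶ A) → (T ⟶ B))
    (hnat : ∀ {k : κ} {T T' : Over S} (q : T' ⟶ T) (a : T ⟶ Over.mk (z k)) (x : T ⟶ A),
      q ≫ val a x = val (q ≫ a) (q ≫ x))
    (hind : ∀ {k l : κ} {T : Over S} (a : T ⟶ Over.mk (z k)) (b : T ⟶ Over.mk (z l)) (x : T ⟶ A),
      val a x = val b x) :
    ∃ r : A ⟶ B, ∀ {k : κ} {T : Over S} (a : T ⟶ Over.mk (z k)) (x : T ⟶ A), x ≫ r = val a x := by
  have hc : ∀ T : Over S, SchDescent.IsCover fun i => pullback.fst T.hom (z i) :=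
    fun T => SchDescent.isCover_pullback hz T.hom
  let Q : ∀ (T : Over S) (i : κ), Over S := fun T i => Over.mk (pullback.fst T.hom (z i) ≫ T.hom)
  let pr : ∀ (T : Over S) (i : κ), Q T i ⟶ T := fun T i => Over.homMk (pullback.fst _ _) rfl
  let toW : ∀ (T : Over S) (i : κ), Q T i ⟶ Over.mk (z i) := fun T i =>
    Over.homMk (pullback.snd T.hom (z i)) pullback.condition.symm
  let ri : ∀ i, Q A i ⟶ B := fun i => val (toW A i) (pr A i)
  obtain ⟨t, ht, -⟩ := SchDescent.existsUnique_glue (hc A) (fun i => (ri i).left) fun i j T p q hpq => by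
    let T' : Over S := Over.mk (p ≫ pullback.fst A.hom (z i) ≫ A.hom)
    let p' : T' ⟶ Q A i := Over.homMk p rfl
    let q₁ : T' ⟶ Q A j := Over.homMk q (by
      change q ≫ pullback.fst A.hom (z j) ≫ A.hom = p ≫ pullback.fst A.hom (z i) ≫ A.hom
      rw [reassoc_of% hpq])
    have e : p' ≫ pr A i = q₁ ≫ pr A j := Over.OverMorphism.ext hpq
    refine congr(CommaMorphism.left $((?_ : p' ≫ ri i = q₁ ≫ ri j)))
    simp only [ri, hnat, e]
    exact hind _ _ _
  let r : A ⟶ B := Over.homMk t (SchDescent.hom_ext (hc A) fun i => by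
    rw [reassoc_of% (ht i), Over.w (ri i)]; rfl)
  have hr : ∀ i, pr A i ≫ r = ri i := fun i => Over.OverMorphism.ext (ht i)
  refine ⟨r, fun {k T} a x => ?_⟩
  let w : T ⟶ Q A k := Over.homMk (pullback.lift x.left a.left (by
    rw [Over.w x]; exact (Over.w a).symm)) (by
      change pullback.lift _ _ _ ≫ pullback.fst _ _ ≫ A.hom = T.hom
      rw [pullback.lift_fst_assoc, Over.w])
  have hw : w ≫ pr A k = x := Over.OverMorphism.ext (pullback.lift_fst _ _ _)
  have hw2 : w ≫ toW A k = a := Over.OverMorphism.ext (pullback.lift_snd _ _ _)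
  conv_lhs => rw [← hw]
  rw [Category.assoc, hr, hnat, hw, hw2]

/-- morphisms into anything are determined on the members of a cover -/
theorem pts_ext {κ : Type*} {W : κ → Scheme.{u}} {z : ∀ k, W k ⟶ S} (hz : SchDescent.IsCover z)
    {T B : Over S} {b c : T ⟶ B}
    (e : ∀ (k : κ) (T' : Over S) (_ : T' ⟶ Over.mk (z k)) (q : T' ⟶ T), q ≫ b = q ≫ c) : b = c :=
  Over.OverMorphism.ext (SchDescent.hom_ext (SchDescent.isCover_pullback hz T.hom) fun i =>
    congr(CommaMorphism.left $(e i (Over.mk (pullback.fst T.hom (z i) ≫ T.hom))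
      (Over.homMk (pullback.snd T.hom (z i)) pullback.condition.symm)
      (Over.homMk (pullback.fst T.hom (z i)) rfl))))

variable {J J' : Over S} [GrpObj J] [GrpObj J'] [IsAffineHom J'.hom] (u : J ⟶ J') [IsMonHom u]

theorem exists_push (P : NonAbH1.TorsorSch J Scheme.fpqcPrecoverage) :
    ∃ P' : NonAbH1.TorsorSch J' Scheme.fpqcPrecoverage,
      NonAbH1.IsPushforwardAlongSch u P.act P'.act := by
  obtain ⟨κ, W, z, hz, hsec⟩ := exists_cover P.isTorsor.2
  have hP := P.isTorsor.1
  let σ : ∀ k, Over.mk (z k) ⟶ P.X := fun k => (hsec k).some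
  let c : ∀ {k l : κ} {T : Over S}, (T ⟶ Over.mk (z k)) → (T ⟶ Over.mk (z l)) → (T ⟶ J') :=
    fun {k l T} a b => div hP (a ≫ σ k) (b ≫ σ l) ≫ u
  have hdiv : ∀ {T : Over S} (p q r : T ⟶ P.X), div hP p q * div hP q r = div hP p r := fun p q r => by
    conv_rhs => rw [← act_div hP p q]; arg 2; arg 3; rw [← act_div hP q r]
    rw [act_act, div_act]
  have cmul : ∀ {k l m : κ} {T : Over S} (a : T ⟶ Over.mk (z k)) (b : T ⟶ Over.mk (z l))
      (d : T ⟶ Over.mk (z m)), c a b * c b d = c a d := fun a b d => by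
    simp only [c]; rw [← mul_comp_hom, hdiv]
  have cone : ∀ {k : κ} {T : Over S} (a : T ⟶ Over.mk (z k)), c a a = 1 := fun a => by
    have := cmul a a a
    exact mul_eq_left.mp this
  have cnat : ∀ {k l : κ} {T T' : Over S} (q : T' ⟶ T) (a : T ⟶ Over.mk (z k)) (b : T ⟶ Over.mk (z l)),
      q ≫ c a b = c (q ≫ a) (q ≫ b) := fun q a b => by
    simp only [c, ← Category.assoc, comp_div]
  let obj : ∀ k, Over (W k) := fun k => Over.mk (pullback.fst (z k) J'.hom)
  let coord : ∀ {k : κ} {T : Scheme.{u}} {x : T ⟶ W k} (_ : Desc.Lifts (obj k) x),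
      (Over.mk (x ≫ z k) ⟶ J') := fun {k T x} v => Over.homMk (v.1 ≫ pullback.snd (z k) J'.hom) (by
    have e : v.1 ≫ pullback.fst (z k) J'.hom = x := v.2
    change (v.1 ≫ pullback.snd (z k) J'.hom) ≫ J'.hom = x ≫ z k
    rw [Category.assoc, ← pullback.condition, reassoc_of% e])
  let mv : ∀ {T : Scheme.{u}} {i j : κ} (x₀ : T ⟶ W i) (x₁ : T ⟶ W j) (_ : x₀ ≫ z i = x₁ ≫ z j),
      Desc.Lifts (obj i) x₀ → Desc.Lifts (obj j) x₁ := fun {T i j} x₀ x₁ h v =>
    ⟨pullback.lift x₁ ((coord v * c (Over.homMk x₀ rfl : Over.mk (x₀ ≫ z i) ⟶ Over.mk (z i))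
        (Over.homMk x₁ h.symm : Over.mk (x₀ ≫ z i) ⟶ Over.mk (z j))).left)
      (by exact h.symm.trans (Over.w (coord v * c (Over.homMk x₀ rfl : Over.mk (x₀ ≫ z i) ⟶ Over.mk (z i))
        (Over.homMk x₁ h.symm : Over.mk (x₀ ≫ z i) ⟶ Over.mk (z j)))).symm), pullback.lift_fst _ _ _⟩
  have lifts_ext : ∀ {k : κ} {T : Scheme.{u}} {x : T ⟶ W k} {v w : Desc.Lifts (obj k) x},
      v.1 ≫ pullback.snd (z k) J'.hom = w.1 ≫ pullback.snd (z k) J'.hom → v = w := fun {k T x v w} e =>
    Subtype.ext (pullback.hom_ext (v.2.trans w.2.symm) e)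
  have mv_self : ∀ {T : Scheme.{u}} {i : κ} (x : T ⟶ W i) (v : Desc.Lifts (obj i) x), mv x x rfl v = v :=
    fun {T i} x v => lifts_ext (by
      simp only [mv, pullback.lift_snd]
      rw [cone, _root_.mul_one]
      rfl)
  have mv_comp : ∀ {T : Scheme.{u}} {i j k : κ} (x₀ : T ⟶ W i) (x₁ : T ⟶ W j) (x₂ : T ⟶ W k)
      (h₀₁ : x₀ ≫ z i = x₁ ≫ z j) (h₁₂ : x₁ ≫ z j = x₂ ≫ z k) (v : Desc.Lifts (obj i) x₀),
      mv x₁ x₂ h₁₂ (mv x₀ x₁ h₀₁ v) = mv x₀ x₂ (h₀₁.trans h₁₂) v :=
    fun {T i j k} x₀ x₁ x₂ h₀₁ h₁₂ v => lifts_ext (by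
      let θ : Over.mk (x₀ ≫ z i) ⟶ Over.mk (x₁ ≫ z j) :=
        Over.homMk (𝟙 T) (by change 𝟙 T ≫ x₁ ≫ z j = x₀ ≫ z i; rw [Category.id_comp, h₀₁])
      let a₀ : Over.mk (x₀ ≫ z i) ⟶ Over.mk (z i) := Over.homMk x₀ rfl
      let a₁ : Over.mk (x₀ ≫ z i) ⟶ Over.mk (z j) := Over.homMk x₁ h₀₁.symm
      let a₂ : Over.mk (x₀ ≫ z i) ⟶ Over.mk (z k) := Over.homMk x₂ (h₀₁.trans h₁₂).symm
      have hX : θ ≫ (coord (mv x₀ x₁ h₀₁ v) * c (Over.homMk x₁ rfl : Over.mk (x₁ ≫ z j) ⟶ Over.mk (z j))
          (Over.homMk x₂ h₁₂.symm)) = (coord v * c a₀ a₁) * c a₁ a₂ := by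
        rw [MonObj.comp_mul, cnat]
        congr 1
        · refine Over.OverMorphism.ext ?_
          simp [θ, mv, coord, a₀, a₁]
      rw [_root_.mul_assoc, cmul] at hX
      have e := congr(CommaMorphism.left $hX)
      simp only [mv, pullback.lift_snd]
      simpa [θ, mv, coord, a₀, a₂] using e)
  let D : Desc.SchDDFam z :=
    { obj := obj
      φ := fun T i j x₀ x₁ h =>
        { toFun := mv x₀ x₁ h
          invFun := mv x₁ x₀ h.symm
          left_inv := fun v => (mv_comp x₀ x₁ x₀ h h.symm v).trans (mv_self x₀ v)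
          right_inv := fun v => (mv_comp x₁ x₀ x₁ h.symm h v).trans (mv_self x₁ v) }
      φ_natural := fun T T' g i j x₀ x₁ h y₀ y₁ hy₀ hy₁ h' v v' hv' => by
        subst hy₀ hy₁
        let θ : Over.mk ((g ≫ x₀) ≫ z i) ⟶ Over.mk (x₀ ≫ z i) := Over.homMk g (Category.assoc _ _ _).symm
        have hX : coord v' * c (Over.homMk (g ≫ x₀) rfl : Over.mk ((g ≫ x₀) ≫ z i) ⟶ Over.mk (z i))
            (Over.homMk (g ≫ x₁) h'.symm : Over.mk ((g ≫ x₀) ≫ z i) ⟶ Over.mk (z j)) =
            θ ≫ (coord v * c (Over.homMk x₀ rfl) (Over.homMk x₁ h.symm)) := by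
          rw [MonObj.comp_mul, cnat]
          congr 1
          · refine Over.OverMorphism.ext ?_
            simp [θ, coord, hv']
        refine pullback.hom_ext ?_ ?_
        · simp [mv]
        · have e := congr(CommaMorphism.left $hX)
          simp only [Equiv.coe_fn_mk, mv, pullback.lift_snd, Category.assoc]
          simpa [θ] using e
      φ_self := fun T i x v => mv_self x v
      φ_comp := fun T i j k x₀ x₁ x₂ h₀₁ h₁₂ v => mv_comp x₀ x₁ x₂ h₀₁ h₁₂ v }
  haveI haff : ∀ k, IsAffineHom (pullback.fst (z k) J'.hom) := fun k =>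
    MorphismProperty.pullback_fst _ _ inferInstance
  obtain ⟨U, ⟨e⟩⟩ := SchDescent.isEffective_of_indQuasiAffine hz D fun k =>
    isIndQuasiAffineHom_of_affine (pullback.fst (z k) J'.hom)
  let eh : ∀ k, pullback (z k) U.hom ⟶ pullback (z k) J'.hom := fun k => (e.hom.hom k).left
  let ei : ∀ k, pullback (z k) J'.hom ⟶ pullback (z k) U.hom := fun k => (e.inv.hom k).left
  have h1 : ∀ k, eh k ≫ ei k = 𝟙 _ := fun k =>
    congrArg (fun q : (Desc.toDDFam z).obj U ⟶ (Desc.toDDFam z).obj U => (q.hom k).left) e.hom_inv_id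
  have h2 : ∀ k, ei k ≫ eh k = 𝟙 _ := fun k =>
    congrArg (fun q : D ⟶ D => (q.hom k).left) e.inv_hom_id
  have hfst : ∀ k, eh k ≫ pullback.fst (z k) J'.hom = pullback.fst (z k) U.hom := fun k => Over.w (e.hom.hom k)
  have hfst' : ∀ k, ei k ≫ pullback.fst (z k) U.hom = pullback.fst (z k) J'.hom := fun k => Over.w (e.inv.hom k)
  let χ : ∀ {k : κ} {T : Over S}, (T ⟶ Over.mk (z k)) → (T ⟶ U) → (T ⟶ J') := fun {k T} a p =>
    Over.homMk (pullback.lift a.left p.left ((Over.w a).trans (Over.w p).symm) ≫ eh k ≫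
      pullback.snd (z k) J'.hom) (by
        rw [Category.assoc, Category.assoc, ← pullback.condition, reassoc_of% (hfst k)]
        exact (Category.assoc _ _ _).symm.trans
          ((congrArg (· ≫ z k) (pullback.lift_fst _ _ _)).trans (Over.w a)))
  let sec : ∀ {k : κ} {T : Over S}, (T ⟶ Over.mk (z k)) → (T ⟶ J') → (T ⟶ U) := fun {k T} a g =>
    Over.homMk (pullback.lift a.left g.left ((Over.w a).trans (Over.w g).symm) ≫ ei k ≫
      pullback.snd (z k) U.hom) (by
        rw [Category.assoc, Category.assoc, ← pullback.condition, reassoc_of% (hfst' k)]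
        exact (Category.assoc _ _ _).symm.trans
          ((congrArg (· ≫ z k) (pullback.lift_fst _ _ _)).trans (Over.w a)))
  have sec_χ : ∀ {k : κ} {T : Over S} (a : T ⟶ Over.mk (z k)) (p : T ⟶ U), sec a (χ a p) = p := by
    intro k T a p
    refine Over.OverMorphism.ext ?_
    have e0 : pullback.lift a.left (χ a p).left ((Over.w a).trans (Over.w (χ a p)).symm) =
        pullback.lift a.left p.left ((Over.w a).trans (Over.w p).symm) ≫ eh k := by
      refine pullback.hom_ext ?_ ?_
      · exact (pullback.lift_fst _ _ _).trans (((Category.assoc _ _ _).trans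
          ((congrArg (_ ≫ ·) (hfst k)).trans (pullback.lift_fst _ _ _))).symm)
      · exact (pullback.lift_snd _ _ _).trans (Category.assoc _ _ _).symm
    change pullback.lift a.left (χ a p).left _ ≫ ei k ≫ pullback.snd (z k) U.hom = p.left
    erw [e0, Category.assoc, reassoc_of% (h1 k), pullback.lift_snd]
  have χ_sec : ∀ {k : κ} {T : Over S} (a : T ⟶ Over.mk (z k)) (g : T ⟶ J'), χ a (sec a g) = g := by
    intro k T a g
    refine Over.OverMorphism.ext ?_
    have e0 : pullback.lift a.left (sec a g).left ((Over.w a).trans (Over.w (sec a g)).symm) =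
        pullback.lift a.left g.left ((Over.w a).trans (Over.w g).symm) ≫ ei k := by
      refine pullback.hom_ext ?_ ?_
      · exact (pullback.lift_fst _ _ _).trans (((Category.assoc _ _ _).trans
          ((congrArg (_ ≫ ·) (hfst' k)).trans (pullback.lift_fst _ _ _))).symm)
      · exact (pullback.lift_snd _ _ _).trans (Category.assoc _ _ _).symm
    change pullback.lift a.left (sec a g).left _ ≫ eh k ≫ pullback.snd (z k) J'.hom = g.left
    erw [e0, Category.assoc, reassoc_of% (h2 k), pullback.lift_snd]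
  have χ_nat : ∀ {k : κ} {T T' : Over S} (q : T' ⟶ T) (a : T ⟶ Over.mk (z k)) (p : T ⟶ U),
      q ≫ χ a p = χ (q ≫ a) (q ≫ p) := fun {k T T'} q a p => by
    refine Over.OverMorphism.ext ?_
    change q.left ≫ pullback.lift _ _ _ ≫ _ = pullback.lift _ _ _ ≫ _
    rw [← Category.assoc]
    congr 1
    exact pullback.hom_ext (by simp) (by simp)
  have sec_nat : ∀ {k : κ} {T T' : Over S} (q : T' ⟶ T) (a : T ⟶ Over.mk (z k)) (g : T ⟶ J'),
      q ≫ sec a g = sec (q ≫ a) (q ≫ g) := fun {k T T'} q a g => by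
    conv_rhs => rw [← χ_sec a g, χ_nat, sec_χ]
  have χ_comp : ∀ {k l : κ} {T : Over S} (a : T ⟶ Over.mk (z k)) (b : T ⟶ Over.mk (z l)) (p : T ⟶ U),
      χ b p = χ a p * c a b := by
    intro k l T a b p
    have hab : a.left ≫ z k = b.left ≫ z l := (Over.w a).trans (Over.w b).symm
    let v : Desc.Lifts (((Desc.toDDFam z).obj U).obj k) a.left :=
      ⟨pullback.lift a.left p.left ((Over.w a).trans (Over.w p).symm), pullback.lift_fst _ _ _⟩
    let w : Desc.Lifts (D.obj k) a.left := e.hom.push v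
    have hc := e.hom.comm a.left b.left hab v w rfl
    have hv : (((Desc.toDDFam z).obj U).φ a.left b.left hab v).1 =
        pullback.lift b.left p.left ((Over.w b).trans (Over.w p).symm) := by
      refine pullback.hom_ext ?_ ?_
      · exact (pullback.lift_fst _ _ _).trans (pullback.lift_fst _ _ _).symm
      · exact (pullback.lift_snd _ _ _).trans ((pullback.lift_snd _ _ _).trans (pullback.lift_snd _ _ _).symm)
    have hc2 := congrArg (· ≫ pullback.snd (z l) J'.hom) hc
    rw [hv] at hc2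
    let θ : T ⟶ Over.mk (a.left ≫ z k) :=
      Over.homMk (𝟙 _) (by change 𝟙 _ ≫ a.left ≫ z k = T.hom; rw [Category.id_comp]; exact Over.w a)
    have hX : χ a p * c a b =
        θ ≫ (coord w * c (Over.homMk a.left rfl : Over.mk (a.left ≫ z k) ⟶ Over.mk (z k))
          (Over.homMk b.left hab.symm)) := by
      rw [MonObj.comp_mul, cnat]
      congr 1
    refine Over.OverMorphism.ext ?_
    rw [hX]
    change pullback.lift b.left p.left _ ≫ eh l ≫ pullback.snd (z l) J'.hom = 𝟙 _ ≫ _
    rw [Category.id_comp, ← Category.assoc]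
    exact hc2.symm.trans (pullback.lift_snd _ _ _)
  have sec_comp : ∀ {k l : κ} {T : Over S} (a : T ⟶ Over.mk (z k)) (b : T ⟶ Over.mk (z l)) (g : T ⟶ J'),
      sec a g = sec b (g * c a b) := fun a b g => by
    have e := χ_comp a b (sec a g)
    rw [χ_sec] at e
    rw [← e, sec_χ]
  obtain ⟨α, hα⟩ := exists_glue_pts hz (A := J' ⊗ U) (B := U)
    (fun a x => sec a ((x ≫ fst J' U) * χ a (x ≫ snd J' U)))
    (fun q a x => by rw [sec_nat, MonObj.comp_mul, χ_nat, Category.assoc, Category.assoc])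
    (fun a b x => by rw [sec_comp a b, χ_comp a b, _root_.mul_assoc])
  have hα' : ∀ {k : κ} {T : Over S} (a : T ⟶ Over.mk (z k)) (g : T ⟶ J') (p : T ⟶ U),
      lift g p ≫ α = sec a (g * χ a p) := fun a g p => by rw [hα a, lift_fst, lift_snd]
  let act' : AlgGrp.Action J' U :=
    { act := α
      one_act := pts_ext hz fun k T a q => by
        have e : q ≫ (η[J'] ▷ U) = lift (1 : T ⟶ J') (q ≫ snd _ U) := by
          apply CartesianMonoidalCategory.hom_ext
          · rw [Category.assoc, whiskerRight_fst, ← Category.assoc, lift_fst, Hom.one_def,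
              toUnit_unique (q ≫ fst (𝟙_ (Over S)) U) (toUnit T)]
          · simp
        rw [← Category.assoc, e, hα' a, _root_.one_mul, sec_χ, CartesianMonoidalCategory.leftUnitor_hom]
      mul_act := pts_ext hz fun k T a q => by
        let g₁ := q ≫ fst (J' ⊗ J') U ≫ fst J' J'
        let g₂ := q ≫ fst (J' ⊗ J') U ≫ snd J' J'
        let p := q ≫ snd (J' ⊗ J') U
        have e1 : q ≫ (μ[J'] ▷ U) = lift (g₁ * g₂) p := by
          apply CartesianMonoidalCategory.hom_ext
          · rw [Category.assoc, whiskerRight_fst, lift_fst, Hom.mul_def, ← Category.assoc]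
            congr 1
            apply CartesianMonoidalCategory.hom_ext <;> simp [g₁, g₂]
          · simp [p]
        have e2 : q ≫ (α_ J' J' U).hom ≫ (J' ◁ α) = lift g₁ (lift g₂ p ≫ α) := by
          apply CartesianMonoidalCategory.hom_ext
          · simp [g₁]
          · rw [Category.assoc, Category.assoc, whiskerLeft_snd, lift_snd, ← Category.assoc, ← Category.assoc]
            congr 1
            apply CartesianMonoidalCategory.hom_ext <;> simp [g₂, p]
        rw [← Category.assoc, e1, hα' a, ← Category.assoc ((α_ J' J' U).hom) (J' ◁ α), ← Category.assoc q,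
          e2, hα' a, hα' a, χ_sec, _root_.mul_assoc] }
  obtain ⟨r, hr⟩ := exists_glue_pts hz (A := P.X) (B := U)
    (fun {k T} a x => sec a (div hP x (a ≫ σ k) ≫ u))
    (fun q a x => by rw [sec_nat, ← Category.assoc, comp_div, Category.assoc])
    (fun a b x => by
      rw [sec_comp a b]
      congr 1
      simp only [c]
      rw [← mul_comp_hom, hdiv])
  refine ⟨⟨U, act', ?_, ?_⟩, r, ?_⟩
  · refine isIso_of_locally_bijective (lift α (snd J' U)) hz fun k T a =>
      ⟨fun x y hxy => ?_, fun y => ?_⟩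
    · have e1 := congrArg (· ≫ snd U U) hxy
      simp only [Category.assoc, lift_snd] at e1
      have e2 := congrArg (· ≫ fst U U) hxy
      simp only [Category.assoc, lift_fst, hα a] at e2
      have e3 := congrArg (χ a) e2
      rw [χ_sec, χ_sec, e1, mul_left_inj] at e3
      exact CartesianMonoidalCategory.hom_ext _ _ e3 e1
    · refine ⟨lift (χ a (y ≫ fst U U) * (χ a (y ≫ snd U U))⁻¹) (y ≫ snd U U), ?_⟩
      apply CartesianMonoidalCategory.hom_ext
      · simp only [Category.assoc, lift_fst]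
        rw [hα' a, inv_mul_cancel_right, sec_χ]
      · simp
  · refine ⟨Presieve.ofArrows W z, hz, ?_⟩
    rintro _ _ ⟨k⟩
    exact ⟨(sec (𝟙 (Over.mk (z k))) 1).left, Over.w (sec (𝟙 (Over.mk (z k))) 1)⟩
  · refine pts_ext hz fun k T a q => ?_
    have e1 : q ≫ P.act.act = act P.act (q ≫ fst J P.X) (q ≫ snd J P.X) := by
      rw [← comp_act, act, lift_fst_snd, Category.id_comp]
    rw [← Category.assoc, e1, hr a, ← Category.assoc, comp_lift, hα' a]
    simp only [← Category.assoc]
    rw [hr a, χ_sec, ← mul_comp_hom]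
    congr 2
    conv_lhs => arg 2; rw [← act_div hP (q ≫ snd J P.X) (a ≫ σ k)]
    rw [act_act, div_act]

end Groth.Agent.TorsorDesc
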