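import Groth.Agent.TorsorDesc.Equiv

/-!
# The push forward of a torsor is unique
-/

set_option autoImplicit false
set_option backward.isDefEq.respectTransparency.types false

noncomputable section

open AlgebraicGeometry CategoryTheory CategoryTheory.Limits MonoidalCategory CartesianMonoidalCategory MonObj

namespace Groth.Agent.TorsorDesc

universe u

variable {S : Scheme.{u}} {J J' J'' P P' P'' : Over S} [GrpObj J] [GrpObj J'] [GrpObj J'']
  (u : J ⟶ J') (v : J' ⟶ J'') [IsMonHom v]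
  {a : AlgGrp.Action J P} {a' : AlgGrp.Action J' P'} {a'' : AlgGrp.Action J'' P''}

theorem pt_equivariant {G H X Y : Over S} [GrpObj G] [GrpObj H] {b : AlgGrp.Action G X}
    {b' : AlgGrp.Action H Y} {w : G ⟶ H} {q : X ⟶ Y}
    (hq : b.act ≫ q = lift (fst G X ≫ w) (snd G X ≫ q) ≫ b'.act)
    {T : Over S} (h : T ⟶ G) (x : T ⟶ X) : act b h x ≫ q = act b' (h ≫ w) (x ≫ q) := by
  rw [act, act, Category.assoc, hq, comp_lift_assoc, lift_fst_assoc, lift_snd_assoc]

theorem mul_comp_hom {G H T : Over S} [GrpObj G] [GrpObj H] (g g' : T ⟶ G) (w : G ⟶ H) [IsMonHom w] :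
    (g * g') ≫ w = (g ≫ w) * (g' ≫ w) := by
  simp [MonObj.mul_comp]

theorem existsUnique_push
    (hP : NonAbH1.IsTorsorFor Scheme.fpqcPrecoverage a)
    (hP' : NonAbH1.IsPseudoTorsorSch a')
    (q' : P ⟶ P') (hq' : a.act ≫ q' = lift (fst J P ≫ u) (snd J P ≫ q') ≫ a'.act)
    (q'' : P ⟶ P'') (hq'' : a.act ≫ q'' = lift (fst J P ≫ u ≫ v) (snd J P ≫ q'') ≫ a''.act) :
    ∃! r : P' ⟶ P'', a'.act ≫ r = lift (fst J' P' ≫ v) (snd J' P' ≫ r) ≫ a''.act ∧ q' ≫ r = q'' := by
  obtain ⟨κ, W, z, hz, hsec⟩ := exists_cover hP.2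
  let σ := hsec
  have hc : ∀ T : Over S, SchDescent.IsCover fun i => pullback.fst T.hom (z i) :=
    fun T => SchDescent.isCover_pullback hz T.hom
  let Q : ∀ (T : Over S) (i : κ), Over S := fun T i => Over.mk (pullback.fst T.hom (z i) ≫ T.hom)
  let pr : ∀ (T : Over S) (i : κ), Q T i ⟶ T := fun T i => Over.homMk (pullback.fst _ _) rfl
  let toW : ∀ (T : Over S) (i : κ), Q T i ⟶ Over.mk (z i) := fun T i =>
    Over.homMk (pullback.snd T.hom (z i)) pullback.condition.symm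
  have hext : ∀ {T Z : Over S} {b c : T ⟶ Z}, (∀ i, pr T i ≫ b = pr T i ≫ c) → b = c := fun {T Z b c} e =>
    Over.OverMorphism.ext (SchDescent.hom_ext (hc T) fun i => congr(CommaMorphism.left $(e i)))
  have key1 := @pt_equivariant S _ _ _ _ _ _ _ _ _ _ hq'
  have key2 := @pt_equivariant S _ _ _ _ _ _ _ _ _ _ hq''
  let val : ∀ {T : Over S}, (T ⟶ P) → (T ⟶ P') → (T ⟶ P'') := fun {T} x y =>
    act a'' (div hP' y (x ≫ q') ≫ v) (x ≫ q'')
  have hval : ∀ {T : Over S} (x x₁ : T ⟶ P) (y : T ⟶ P'), val x y = val x₁ y := by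
    intro T x x₁ y
    have e1 : act a (div hP.1 x₁ x) x = x₁ := act_div _ _ _
    have e2 : div hP' y (x ≫ q') = div hP' y (x₁ ≫ q') * (div hP.1 x₁ x ≫ u) := by
      have e4 : x₁ ≫ q' = act a' (div hP.1 x₁ x ≫ u) (x ≫ q') := by rw [← key1, e1]
      conv_lhs => rw [← act_div hP' y (x₁ ≫ q'), e4, act_act, div_act]
      rw [e4]
    have e3 : x₁ ≫ q'' = act a'' (div hP.1 x₁ x ≫ u ≫ v) (x ≫ q'') := by rw [← key2, e1]
    simp only [val]
    rw [e2, e3, act_act, mul_comp_hom, Category.assoc]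
  have hnat : ∀ {T T' : Over S} (w : T' ⟶ T) (x : T ⟶ P) (y : T ⟶ P'),
      w ≫ val x y = val (w ≫ x) (w ≫ y) := fun w x y => by
    simp only [val, comp_act, ← Category.assoc, comp_div]
  have hequiv : ∀ {T : Over S} (x : T ⟶ P) (y : T ⟶ P') (k : T ⟶ J'),
      val x (act a' k y) = act a'' (k ≫ v) (val x y) := fun {T} x y k => by
    simp only [val]
    conv_lhs => rw [← act_div hP' y (x ≫ q'), act_act, div_act]
    rw [act_act, mul_comp_hom]
  let ri : ∀ i, Q P' i ⟶ P'' := fun i => val (toW P' i ≫ (σ i).some) (pr P' i)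
  obtain ⟨t, ht, -⟩ := SchDescent.existsUnique_glue (hc P') (fun i => (ri i).left) fun i j T p q hpq => by
    let T' : Over S := Over.mk (p ≫ pullback.fst P'.hom (z i) ≫ P'.hom)
    let p' : T' ⟶ Q P' i := Over.homMk p rfl
    let q₁ : T' ⟶ Q P' j := Over.homMk q (by
      change q ≫ pullback.fst P'.hom (z j) ≫ P'.hom = p ≫ pullback.fst P'.hom (z i) ≫ P'.hom
      rw [reassoc_of% hpq])
    have e : p' ≫ pr P' i = q₁ ≫ pr P' j := Over.OverMorphism.ext hpq
    refine congr(CommaMorphism.left $((?_ : p' ≫ ri i = q₁ ≫ ri j)))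
    simp only [ri, hnat, e]
    exact hval _ _ _
  let r : P' ⟶ P'' := Over.homMk t (SchDescent.hom_ext (hc P') fun i => by
    rw [reassoc_of% (ht i), Over.w (ri i)]; rfl)
  have hr : ∀ i, pr P' i ≫ r = ri i := fun i => Over.OverMorphism.ext (ht i)
  have hrv : ∀ {T : Over S} (x : T ⟶ P) (y : T ⟶ P'), y ≫ r = val x y := fun {T} x y => by
    refine hext fun i => ?_
    let w : Q T i ⟶ Q P' i := Over.homMk (pullback.map _ _ _ _ y.left (𝟙 _) (𝟙 S)
      (by rw [Category.comp_id, Over.w]) (by simp)) (by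
        change pullback.map _ _ _ _ _ _ _ _ _ ≫ pullback.fst _ _ ≫ P'.hom = pullback.fst _ _ ≫ T.hom
        rw [pullback.lift_fst_assoc, Category.assoc, Over.w])
    have hw : pr T i ≫ y = w ≫ pr P' i := Over.OverMorphism.ext (pullback.lift_fst _ _ _).symm
    rw [reassoc_of% hw, hr, hnat, ← hw, hnat]
    exact hval _ _ _
  refine ⟨r, ⟨?_, ?_⟩, ?_⟩
  · refine hext fun i => ?_
    let x := toW (J' ⊗ P') i ≫ (σ i).some
    have e1 : pr (J' ⊗ P') i ≫ a'.act =
        act a' (pr (J' ⊗ P') i ≫ fst J' P') (pr (J' ⊗ P') i ≫ snd J' P') := by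
      rw [← comp_act, act, lift_fst_snd, Category.id_comp]
    rw [← Category.assoc, e1, hrv x, hequiv, ← hrv x, comp_lift_assoc, act]
    simp only [Category.assoc]
  · have h := hrv (𝟙 P) q'
    rw [h]
    simp only [val, Category.id_comp]
    have h1 : div hP' q' q' = 1 := by
      conv_lhs => arg 2; rw [← one_act a' q']
      rw [div_act]
    rw [h1, MonObj.one_comp, one_act]
  · rintro r' ⟨h1, h2⟩
    refine hext fun i => ?_
    have key := @pt_equivariant S _ _ _ _ _ _ _ _ _ _ h1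
    let x := toW P' i ≫ (σ i).some
    conv_lhs => rw [← act_div hP' (pr P' i) (x ≫ q'), key]
    simp only [Category.assoc, h2]
    exact (hr i).symm

end Groth.Agent.TorsorDesc
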