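import Groth.Agent.TorsorDesc.PushExist
import Groth.Agent.SchDescent.Cover

/-!
# Sections of a quotient and reductions of the structure group
-/

set_option autoImplicit false
set_option backward.isDefEq.respectTransparency.types false

noncomputable section

open AlgebraicGeometry CategoryTheory CategoryTheory.Limits MonoidalCategory CartesianMonoidalCategory MonObj

namespace Groth.Agent.TorsorDesc

universe u

variable {S : Scheme.{u}} {G F Q E : Over S} [GrpObj G] {b : AlgGrp.Action G F} {π : F ⟶ Q}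
  {aE : AlgGrp.Action G E} {φ : E ⟶ F}

theorem act_quot (hsq : IsPullback b.act (snd G F) π π) {T : Over S} (g : T ⟶ G) (x : T ⟶ F) :
    act b g x ≫ π = x ≫ π := by
  rw [act, Category.assoc, hsq.w, lift_snd_assoc]

theorem eq_of_act_eq (hsq : IsPullback b.act (snd G F) π π) {T : Over S} {g g' : T ⟶ G} {x : T ⟶ F}
    (h : act b g x = act b g' x) : g = g' := by
  have : lift g x = lift g' x := hsq.hom_ext h (by simp)
  simpa using congrArg (fun l => l ≫ fst G F) this

theorem act_equivariant (hφ : AlgGrp.Action.IsEquivariant aE b φ) {T : Over S} (g : T ⟶ G) (e : T ⟶ E) :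
    act aE g e ≫ φ = act b g (e ≫ φ) := by
  rw [act, act, Category.assoc, hφ, lift_whiskerLeft_assoc]

theorem etale_le_fpqc : Scheme.etalePrecoverage.{u} ≤ Scheme.fpqcPrecoverage :=
  le_trans Scheme.etalePrecoverage_le_proetalePrecoverage Scheme.proetalePrecoverage_le_fpqcPrecoverage

theorem existsUnique_section_of_reduction (hsq : IsPullback b.act (snd G F) π π)
    (hE : NonAbH1.IsTorsorFor Scheme.etalePrecoverage aE) (hφ : AlgGrp.Action.IsEquivariant aE b φ) :
    (∃! σ : 𝟙_ (Over S) ⟶ Q, toUnit E ≫ σ = φ ≫ π) ∧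
      ∀ σ : 𝟙_ (Over S) ⟶ Q, toUnit E ≫ σ = φ ≫ π → IsPullback φ (toUnit E) π σ := by
  have hps := hE.1
  obtain ⟨κ, W, z, hz, hsec⟩ := exists_cover (X := E)
    (show NonAbH1.IsLocallyTrivialFor Scheme.fpqcPrecoverage E by
      obtain ⟨R, h1, h2⟩ := hE.2; exact ⟨R, etale_le_fpqc _ h1, h2⟩)
  let e := fun k => (hsec k).some
  have hconst : ∀ {T : Over S} (x y : T ⟶ E), x ≫ φ ≫ π = y ≫ φ ≫ π := by
    intro T x y
    rw [← Category.assoc, ← Category.assoc, ← act_div hps x y, act_equivariant hφ, act_quot hsq]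
  have hinj : ∀ {T : Over S} (x y : T ⟶ E), x ≫ φ = y ≫ φ → x = y := by
    intro T x y h
    have h1 : act b (div hps x y) (y ≫ φ) = act b 1 (y ≫ φ) := by
      rw [← act_equivariant hφ, act_div, h, one_act]
    rw [← act_div hps x y, eq_of_act_eq hsq h1, one_act]
  refine ⟨?_, fun σ hσ => ?_⟩
  · obtain ⟨r, hr⟩ := exists_glue_pts hz (A := 𝟙_ (Over S)) (B := Q) (fun {k T} a _ => a ≫ e k ≫ φ ≫ π)
      (fun q a x => by simp) (fun {k l T} a c x => by simpa using hconst (a ≫ e k) (c ≫ e l))
    refine ⟨r, pts_ext hz fun k T' a q => ?_, fun r' hr' => pts_ext hz fun k T' a q => ?_⟩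
    · rw [← Category.assoc, hr a]
      simpa using hconst (a ≫ e k) q
    · rw [hr a, ← Category.assoc a, ← hr', ← Category.assoc]
      exact congrArg (· ≫ r') (Subsingleton.elim _ _)
  · refine ⟨⟨hσ.symm⟩, ⟨PullbackCone.isLimitAux' _ fun s => ?_⟩⟩
    have hloc : ∀ (k : κ) (T : Over S) (_ : T ⟶ Over.mk (z k)) (q : T ⟶ s.pt),
        ∃ x : T ⟶ E, x ≫ φ = q ≫ s.fst := by
      intro k T a q
      have h1 : (q ≫ s.fst) ≫ π = ((a ≫ e k) ≫ φ) ≫ π := by
        rw [Category.assoc, s.condition, Category.assoc (a ≫ e k), ← hσ, ← Category.assoc (a ≫ e k),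
          ← Category.assoc q]
        exact congrArg (· ≫ σ) (Subsingleton.elim _ _)
      let l := hsq.lift (q ≫ s.fst) ((a ≫ e k) ≫ φ) h1
      refine ⟨act aE (l ≫ fst G F) (a ≫ e k), ?_⟩
      rw [act_equivariant hφ, act, show lift (l ≫ fst G F) ((a ≫ e k) ≫ φ) = l from
        CartesianMonoidalCategory.hom_ext _ _ (by simp) (by simp [l])]
      exact hsq.lift_fst _ _ _
    have hex : ∃ r : s.pt ⟶ E, r ≫ φ = s.fst := by
      choose v hv using hloc
      obtain ⟨r, hr⟩ := exists_glue_pts hz (A := s.pt) (B := E) (fun {k T} a q => v k T a q)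
        (fun {k T T'} w a x => hinj _ _ (by rw [Category.assoc, hv, hv, Category.assoc]))
        (fun a c x => hinj _ _ (by rw [hv, hv]))
      exact ⟨r, pts_ext hz fun k T' a q => by rw [← Category.assoc, hr a, hv]⟩
    exact ⟨hex.choose, hex.choose_spec, Subsingleton.elim _ _,
      fun {m} hm _ => hinj _ _ (hm.trans hex.choose_spec.symm)⟩

theorem exists_reduction_aux {E : Over S} {φ : E ⟶ F} (hsq : IsPullback b.act (snd G F) π π)
    (hloc : NonAbH1.IsLocallyTrivialFor Scheme.etalePrecoverage (Over.mk π.left : Over Q.left))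
    (σ : 𝟙_ (Over S) ⟶ Q) (hE : IsPullback φ (toUnit E) π σ) :
    ∃ aE : AlgGrp.Action G E, NonAbH1.IsTorsorFor Scheme.etalePrecoverage aE ∧
      AlgGrp.Action.IsEquivariant aE b φ := by
  have hcond : φ ≫ π = toUnit E ≫ σ := hE.w
  obtain ⟨m, hm⟩ : ∃ m : G ⊗ E ⟶ E, m ≫ φ = (G ◁ φ) ≫ b.act := by
    refine ⟨_, hE.lift_fst ((G ◁ φ) ≫ b.act) (toUnit _) ?_⟩
    have h1 : ((G ◁ φ) ≫ b.act) ≫ π = snd G E ≫ φ ≫ π := by
      rw [Category.assoc, hsq.w, whiskerLeft_snd_assoc]
    rw [h1, hcond, ← Category.assoc]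
    exact congrArg (· ≫ σ) (toUnit_unique _ _)
  have hext : ∀ {T : Over S} (x y : T ⟶ E), x ≫ φ = y ≫ φ → x = y := fun x y h =>
    hE.hom_ext h (toUnit_unique _ _)
  obtain ⟨aE, hm⟩ : ∃ aE : AlgGrp.Action G E, aE.act ≫ φ = (G ◁ φ) ≫ b.act := ⟨
    { act := m
      one_act := hext _ _ (by
        rw [Category.assoc, hm, ← Category.assoc, ← whisker_exchange, Category.assoc, b.one_act,
          MonoidalCategory.leftUnitor_naturality])
      mul_act := hext _ _ (by
        rw [Category.assoc, hm, ← Category.assoc, ← whisker_exchange, Category.assoc, b.mul_act]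
        simp only [Category.assoc, hm]
        rw [← MonoidalCategory.whiskerLeft_comp_assoc, hm, MonoidalCategory.whiskerLeft_comp_assoc,
          MonoidalCategory.associator_naturality_right_assoc]) }, hm⟩
  have hact : ∀ {T : Over S} (g : T ⟶ G) (e : T ⟶ E), act aE g e ≫ φ = act b g (e ≫ φ) :=
    fun g e => act_equivariant hm g e
  refine ⟨aE, ⟨?_, ?_⟩, hm⟩
  · have hbij : ∀ T : Over S, Function.Bijective fun l : T ⟶ G ⊗ E => l ≫ lift aE.act (snd G E) := by
      intro T
      have key : ∀ l : T ⟶ G ⊗ E, l ≫ lift aE.act (snd G E) =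
          lift (act aE (l ≫ fst G E) (l ≫ snd G E)) (l ≫ snd G E) := fun l => by
        rw [comp_lift, act, show lift (l ≫ fst G E) (l ≫ snd G E) = l from
          CartesianMonoidalCategory.hom_ext _ _ (by simp) (by simp)]
      refine ⟨fun l l' h => ?_, fun pq => ?_⟩
      · change l ≫ lift aE.act (snd G E) = l' ≫ lift aE.act (snd G E) at h
        rw [key, key] at h
        have h1 : l ≫ snd G E = l' ≫ snd G E := by simpa using congrArg (fun w => w ≫ snd E E) h
        have h2 : act aE (l ≫ fst G E) (l ≫ snd G E) = act aE (l' ≫ fst G E) (l' ≫ snd G E) := by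
          simpa using congrArg (fun w => w ≫ fst E E) h
        refine CartesianMonoidalCategory.hom_ext _ _ (eq_of_act_eq hsq (x := (l ≫ snd G E) ≫ φ) ?_) h1
        have h3 := congrArg (· ≫ φ) h2
        simp only [hact] at h3
        rw [← h1] at h3
        exact h3
      · let p := pq ≫ fst E E
        let q := pq ≫ snd E E
        have h1 : (p ≫ φ) ≫ π = (q ≫ φ) ≫ π := by
          rw [show (p ≫ φ) ≫ π = (p ≫ toUnit E) ≫ σ by rw [Category.assoc, hcond, ← Category.assoc],
            show (q ≫ φ) ≫ π = (q ≫ toUnit E) ≫ σ by rw [Category.assoc, hcond, ← Category.assoc],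
            toUnit_unique (p ≫ toUnit E) (q ≫ toUnit E)]
        let l := hsq.lift (p ≫ φ) (q ≫ φ) h1
        refine ⟨lift (l ≫ fst G F) q, ?_⟩
        show lift (l ≫ fst G F) q ≫ lift aE.act (snd G E) = pq
        rw [key, lift_fst, lift_snd]
        refine CartesianMonoidalCategory.hom_ext _ _ ?_ (by simp [q])
        rw [lift_fst]
        refine hext _ _ ?_
        rw [hact, act, show lift (l ≫ fst G F) (q ≫ φ) = l from
          CartesianMonoidalCategory.hom_ext _ _ (by simp) (by simp [l])]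
        exact hsq.lift_fst _ _ _
    obtain ⟨inv', hinv⟩ := (hbij _).2 (𝟙 _)
    exact ⟨inv', (hbij _).1 (by
      simp only [Category.assoc, Category.id_comp]
      rw [show inv' ≫ lift aE.act (snd G E) = 𝟙 _ from hinv, Category.comp_id]), hinv⟩
  · obtain ⟨R, hR, hsec⟩ := hloc
    let κ := {q : Σ Y : Scheme.{u}, Y ⟶ Q.left // R q.2}
    have hR' : Presieve.ofArrows (fun i : κ => i.1.1) (fun i : κ => i.1.2) ∈ Scheme.etalePrecoverage Q.left := by
      convert hR
      funext Y; ext g
      exact ⟨fun ⟨i⟩ => i.2, fun hg => Presieve.ofArrows.mk (⟨⟨Y, g⟩, hg⟩ : κ)⟩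
    refine ⟨Presieve.ofArrows (fun i : κ => pullback σ.left i.1.2) (fun i : κ => pullback.fst σ.left i.1.2),
      Precoverage.mem_coverings_of_isPullback (fun i : κ => i.1.2) hR' σ.left _ _
        (fun i => IsPullback.of_hasPullback σ.left i.1.2), ?_⟩
    rintro _ _ ⟨i⟩
    obtain ⟨s, hs⟩ := hsec _ i.2
    have hs' : s ≫ π.left = i.1.2 := hs
    let T : Over S := Over.mk (pullback.fst σ.left i.1.2)
    let x : T ⟶ F := Over.homMk (pullback.snd σ.left i.1.2 ≫ s) (by
      show (pullback.snd σ.left i.1.2 ≫ s) ≫ F.hom = pullback.fst σ.left i.1.2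
      rw [← Over.w π, Category.assoc, reassoc_of% hs', ← pullback.condition_assoc, Over.w σ]
      exact Category.comp_id _)
    have hx : x ≫ π = toUnit T ≫ σ := Over.OverMorphism.ext (by
      show (pullback.snd σ.left i.1.2 ≫ s) ≫ π.left = pullback.fst σ.left i.1.2 ≫ σ.left
      rw [Category.assoc, hs', pullback.condition])
    exact ⟨(hE.lift x (toUnit T) hx).left, Over.w (hE.lift x (toUnit T) hx)⟩

theorem exists_reduction_of_section (hsq : IsPullback b.act (snd G F) π π)
    (hloc : NonAbH1.IsLocallyTrivialFor Scheme.etalePrecoverage (Over.mk π.left : Over Q.left))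
    (σ : 𝟙_ (Over S) ⟶ Q) :
    ∃ (E : Over S) (aE : AlgGrp.Action G E) (φ : E ⟶ F), NonAbH1.IsTorsorFor Scheme.etalePrecoverage aE ∧
      AlgGrp.Action.IsEquivariant aE b φ ∧ IsPullback φ (toUnit E) π σ := by
  have hE : IsPullback (pullback.fst π σ) (toUnit (pullback π σ)) π σ := by
    have h := IsPullback.of_hasPullback π σ
    rwa [show pullback.snd π σ = toUnit (pullback π σ) from toUnit_unique _ _] at h
  obtain ⟨aE, h1, h2⟩ := exists_reduction_aux hsq hloc σ hE
  exact ⟨_, aE, _, h1, h2, hE⟩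

end Groth.Agent.TorsorDesc
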