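import Groth.Agent.TorsorDesc.PushUnique
import Groth.Prelude.Def_NonAbH2

/-!
# Exactness of the cohomology sequence in degree one
-/

set_option autoImplicit false
set_option backward.isDefEq.respectTransparency.types false

noncomputable section

open AlgebraicGeometry CategoryTheory CategoryTheory.Limits MonoidalCategory CartesianMonoidalCategory MonObj

namespace Groth.Agent.TorsorDesc

universe u

variable {S : Scheme.{u}} {G G' G'' : Over S} [GrpObj G] [GrpObj G'] [GrpObj G'']
  {u : G' ⟶ G} {v : G ⟶ G''}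

theorem exact_eq_mul {K : Precoverage Scheme.{u}} (hex : NonAbH1.IsExactSeq K u v) {T : Over S}
    {a b : T ⟶ G} (h : a ≫ v = b ≫ v) : ∃ g : T ⟶ G', a * (g ≫ u) = b := by
  obtain ⟨-, -, -, hP, -⟩ := hex
  refine ⟨hP.lift a b h ≫ snd _ _, ?_⟩
  have h3 : (G ◁ u) ≫ μ[G] = fst G G' * (snd G G' ≫ u) := by
    rw [Hom.mul_def]
    congr 1
  have h4 := (congrArg (fun z => hP.lift a b h ≫ z) h3).symm.trans (hP.lift_snd a b h)
  rw [MonObj.comp_mul, hP.lift_fst, ← Category.assoc] at h4
  exact h4

theorem exact_injective {K : Precoverage Scheme.{u}} (hex : NonAbH1.IsExactSeq K u v) {T : Over S}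
    {g g' : T ⟶ G'} (h : g ≫ u = g' ≫ u) : g = g' := by
  obtain ⟨-, -, -, hP, -⟩ := hex
  have h4 : lift (1 : T ⟶ G) g = lift 1 g' := by
    refine hP.hom_ext (by simp) ?_
    rw [← Category.assoc, ← Category.assoc, lift_whiskerLeft, lift_whiskerLeft, h]
  simpa using congrArg (· ≫ snd _ _) h4

theorem exact_comp_eq_one {K : Precoverage Scheme.{u}} (hex : NonAbH1.IsExactSeq K u v) {T : Over S}
    (g : T ⟶ G') : (g ≫ u) ≫ v = 1 := by
  rw [Category.assoc, hex.2.2.1, MonObj.comp_one]

theorem trivialAction_pt {T : Over S} (g x : T ⟶ G) : act (NonAbH1.trivialAction G) g x = g * x := by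
  rw [Hom.mul_def]; rfl

/-- a cover lifts a local point -/
theorem exists_local_lift (hex : NonAbH1.IsExactSeq Scheme.fpqcPrecoverage u v) {T : Over S}
    (c : T ⟶ G'') : ∃ (κ : Type (u+1)) (W : κ → Over S) (w : ∀ k, W k ⟶ T),
      SchDescent.IsCover (fun k => (w k).left) ∧ ∀ k, ∃ b : W k ⟶ G, b ≫ v = w k ≫ c := by
  obtain ⟨κ, W, z, hz, hsec⟩ := exists_cover hex.2.2.2.2
  refine ⟨κ, fun k => Over.mk (pullback.fst c.left (z k) ≫ T.hom),
    fun k => Over.homMk (pullback.fst c.left (z k)) rfl, SchDescent.isCover_pullback hz c.left, fun k => ?_⟩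
  obtain ⟨s⟩ := hsec k
  refine ⟨Over.homMk (pullback.snd c.left (z k) ≫ s.left) ?_, Over.OverMorphism.ext ?_⟩
  · have e1 : s.left ≫ v.left = z k := Over.w s
    show (pullback.snd c.left (z k) ≫ s.left) ≫ G.hom = pullback.fst c.left (z k) ≫ T.hom
    rw [← Over.w v, Category.assoc, reassoc_of% e1, ← Over.w c, pullback.condition_assoc]
  · show (pullback.snd c.left (z k) ≫ s.left) ≫ v.left = pullback.fst c.left (z k) ≫ c.left
    have e1 : s.left ≫ v.left = z k := Over.w s
    rw [Category.assoc, e1, pullback.condition]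

theorem push_trivial_iff_boundary [IsCommMonObj G]
    (hex : NonAbH1.IsExactSeq Scheme.fpqcPrecoverage u v)
    (Q : NonAbH1.TorsorSch G' Scheme.fpqcPrecoverage) :
    NonAbH1.IsPushforwardAlongSch u Q.act (NonAbH1.trivialAction G) ↔
      ∃ (f : 𝟙_ (Over S) ⟶ G'') (i : Q.X ⟶ G), NonAbH1.IsPullbackTorsor u v f i Q.act := by
  haveI := hex.1
  haveI := hex.2.1
  constructor
  · rintro ⟨φ, hφ⟩
    have hi : ∀ {T : Over S} (g : T ⟶ G') (q : T ⟶ Q.X),
        act Q.act g q ≫ φ⁻¹ = (q ≫ φ⁻¹) * (g ≫ u)⁻¹ := fun g q => by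
      rw [GrpObj.comp_inv, GrpObj.comp_inv, pt_equivariant hφ, trivialAction_pt, mul_inv_rev]
    set i : Q.X ⟶ G := φ⁻¹ with hidef
    have hconst : ∀ {T : Over S} (p q : T ⟶ Q.X), (p ≫ i) ≫ v = (q ≫ i) ≫ v := fun {T} p q => by
      conv_lhs => rw [← act_div Q.isTorsor.1 p q, hi, mul_comp_hom]
      have h1 : ((div Q.isTorsor.1 p q ≫ u)⁻¹) ≫ v = 1 := by
        have h0 := mul_comp_hom ((div Q.isTorsor.1 p q ≫ u)⁻¹) (div Q.isTorsor.1 p q ≫ u) v
        rw [inv_mul_cancel, MonObj.one_comp, exact_comp_eq_one hex, _root_.mul_one] at h0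
        exact h0.symm
      rw [h1, _root_.mul_one]
    obtain ⟨κ, W, z, hz, hsec⟩ := exists_cover Q.isTorsor.2
    obtain ⟨t, ht, -⟩ := SchDescent.existsUnique_glue hz (fun k => ((hsec k).some ≫ i ≫ v).left)
      fun k l T p q hpq => by
        let T' : Over S := Over.mk (p ≫ z k)
        let p' : T' ⟶ Over.mk (z k) := Over.homMk p rfl
        let q' : T' ⟶ Over.mk (z l) := Over.homMk q hpq.symm
        have e := hconst (p' ≫ (hsec k).some) (q' ≫ (hsec l).some)
        simp only [Category.assoc] at e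
        exact congr(CommaMorphism.left $e)
    let f : 𝟙_ (Over S) ⟶ G'' := Over.homMk t (SchDescent.hom_ext hz fun k => by
      rw [reassoc_of% (ht k)]; exact Over.w ((hsec k).some ≫ i ≫ v))
    have hf : ∀ {T : Over S} (p : T ⟶ Q.X), (p ≫ i) ≫ v = toUnit T ≫ f := fun {T} p => by
      refine Over.OverMorphism.ext (SchDescent.hom_ext (SchDescent.isCover_pullback hz T.hom) fun k => ?_)
      let T' : Over S := Over.mk (pullback.fst T.hom (z k) ≫ T.hom)
      let pr : T' ⟶ T := Over.homMk (pullback.fst T.hom (z k)) rfl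
      let w : T' ⟶ Over.mk (z k) := Over.homMk (pullback.snd T.hom (z k)) pullback.condition.symm
      have e := hconst (pr ≫ p) (w ≫ (hsec k).some)
      simp only [Category.assoc] at e
      have e2 : pullback.fst T.hom (z k) ≫ ((p ≫ i) ≫ v).left =
          pullback.snd T.hom (z k) ≫ ((hsec k).some ≫ i ≫ v).left := by
        simpa [pr, w] using congr(CommaMorphism.left $e)
      rw [e2, ← ht k]
      show pullback.snd T.hom (z k) ≫ z k ≫ t = pullback.fst T.hom (z k) ≫ T.hom ≫ t
      rw [pullback.condition_assoc]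
    have hinj : ∀ {T : Over S} (p p' : T ⟶ Q.X), p ≫ i = p' ≫ i → p = p' := fun {T} p p' h => by
      have e : p ≫ i = (p' ≫ i) * (div Q.isTorsor.1 p p' ≫ u)⁻¹ := by rw [← hi, act_div]
      rw [h, left_eq_mul, inv_eq_one] at e
      have e2 : div Q.isTorsor.1 p p' = 1 := exact_injective hex (by rw [e, MonObj.one_comp])
      rw [← act_div Q.isTorsor.1 p p', e2, one_act]
    have hw : i ≫ v = toUnit Q.X ≫ f := by simpa using hf (𝟙 Q.X)
    have hlift : ∀ (c : PullbackCone v f), ∃ p : c.pt ⟶ Q.X, p ≫ i = c.fst := fun c => by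
      let T := c.pt
      let T' : κ → Over S := fun k => Over.mk (pullback.fst T.hom (z k) ≫ T.hom)
      let pr : ∀ k, T' k ⟶ T := fun k => Over.homMk (pullback.fst T.hom (z k)) rfl
      let w : ∀ k, T' k ⟶ Over.mk (z k) := fun k =>
        Over.homMk (pullback.snd T.hom (z k)) pullback.condition.symm
      have hx : ∀ k, ∃ p : T' k ⟶ Q.X, p ≫ i = pr k ≫ c.fst := fun k => by
        have e : ((w k ≫ (hsec k).some) ≫ i) ≫ v = (pr k ≫ c.fst) ≫ v := by
          rw [hf, Category.assoc, c.condition, toUnit_unique c.snd (toUnit _), ← Category.assoc,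
            toUnit_unique (pr k ≫ toUnit _) (toUnit _)]
        obtain ⟨g, hg⟩ := exact_eq_mul hex e
        refine ⟨act Q.act g⁻¹ (w k ≫ (hsec k).some), ?_⟩
        rw [hi, GrpObj.inv_comp, inv_inv, hg]
      choose p hp using hx
      obtain ⟨t, ht, -⟩ := SchDescent.existsUnique_glue (SchDescent.isCover_pullback hz T.hom)
        (fun k => (p k).left) fun k l Z a b hab => by
          let Z' : Over S := Over.mk (a ≫ pullback.fst T.hom (z k) ≫ T.hom)
          let a' : Z' ⟶ T' k := Over.homMk a rfl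
          let b' : Z' ⟶ T' l := Over.homMk b (by
            show b ≫ pullback.fst T.hom (z l) ≫ T.hom = a ≫ pullback.fst T.hom (z k) ≫ T.hom
            rw [reassoc_of% hab])
          have e : a' ≫ pr k = b' ≫ pr l := Over.OverMorphism.ext hab
          exact congr(CommaMorphism.left $(hinj (a' ≫ p k) (b' ≫ p l) (by
            rw [Category.assoc, Category.assoc, hp, hp, reassoc_of% e])))
      refine ⟨Over.homMk t (SchDescent.hom_ext (SchDescent.isCover_pullback hz T.hom) fun k => by
        rw [reassoc_of% (ht k), Over.w (p k)]; rfl), ?_⟩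
      refine Over.OverMorphism.ext (SchDescent.hom_ext (SchDescent.isCover_pullback hz T.hom) fun k => ?_)
      show pullback.fst T.hom (z k) ≫ t ≫ i.left = _
      rw [reassoc_of% (ht k)]
      exact congr(CommaMorphism.left $(hp k))
    choose p hp using hlift
    refine ⟨f, i, hex.1, hex.2.1, ⟨⟨hw⟩, ⟨PullbackCone.IsLimit.mk hw p hp
      (fun c => toUnit_unique _ _) (fun c m h1 _ => hinj _ _ (h1.trans (hp c).symm))⟩⟩, fun T g q => ?_⟩
    rw [← Category.assoc]
    exact hi g q
  · rintro ⟨f, i, -, -, -, h⟩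
    refine ⟨i⁻¹, ?_⟩
    have h1 : lift (fst G' Q.X) (snd G' Q.X) ≫ Q.act.act ≫ i =
        (snd G' Q.X ≫ i) * (fst G' Q.X ≫ u)⁻¹ := h _ _ _
    rw [lift_fst_snd, Category.id_comp] at h1
    show Q.act.act ≫ i⁻¹ = act (NonAbH1.trivialAction G) (fst G' Q.X ≫ u) (snd G' Q.X ≫ i⁻¹)
    rw [GrpObj.comp_inv, h1, trivialAction_pt, GrpObj.comp_inv, mul_inv_rev, inv_inv]

/-- the kernel subscheme of an equivariant map to the trivial torsor, as a torsor -/
theorem push_trivial_iff_exists [IsCommMonObj G]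
    (hex : NonAbH1.IsExactSeq Scheme.fpqcPrecoverage u v)
    (P : NonAbH1.TorsorSch G Scheme.fpqcPrecoverage) :
    NonAbH1.IsPushforwardAlongSch v P.act (NonAbH1.trivialAction G'') ↔
      ∃ Q : NonAbH1.TorsorSch G' Scheme.fpqcPrecoverage, NonAbH1.IsPushforwardAlongSch u Q.act P.act := by
  haveI := hex.1
  haveI := hex.2.1
  constructor
  · rintro ⟨φ, hφ⟩
    haveI : Mono η[G''] := ⟨fun a b _ => toUnit_unique a b⟩
    let X := pullback φ η[G'']
    let jj : X ⟶ P.X := pullback.fst φ η[G'']
    haveI : Mono jj := inferInstanceAs (Mono (pullback.fst φ η[G'']))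
    have hone : ∀ T : Over S, toUnit T ≫ η[G''] = (1 : T ⟶ G'') := fun T => by rw [Hom.one_def]
    have hjj : ∀ {T : Over S} (x : T ⟶ X), (x ≫ jj) ≫ φ = 1 := fun {T} x => by
      rw [Category.assoc, pullback.condition, ← Category.assoc,
        toUnit_unique (x ≫ pullback.snd φ η[G'']) (toUnit T), hone]
    have hmem : ∀ {T : Over S} (g : T ⟶ G') (x : T ⟶ P.X), x ≫ φ = 1 → act P.act (g ≫ u) x ≫ φ = 1 :=
      fun g x hx => by
        rw [pt_equivariant hφ, trivialAction_pt, exact_comp_eq_one hex, _root_.one_mul, hx]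
    let aX : G' ⊗ X ⟶ X := pullback.lift (act P.act (fst G' X ≫ u) (snd G' X ≫ jj)) (toUnit _)
      (by rw [hmem _ _ (hjj _), hone])
    have haX : ∀ {T : Over S} (g : T ⟶ G') (x : T ⟶ X),
        (lift g x ≫ aX) ≫ jj = act P.act (g ≫ u) (x ≫ jj) := fun g x => by
      rw [Category.assoc, pullback.lift_fst, comp_act]
      simp
    let a : AlgGrp.Action G' X :=
      { act := aX
        one_act := by
          rw [← cancel_mono jj]
          have e : (η[G'] ▷ X) = lift (1 : 𝟙_ (Over S) ⊗ X ⟶ G') (snd _ X) := by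
            apply CartesianMonoidalCategory.hom_ext
            · simp [Hom.one_def, toUnit_unique (fst (𝟙_ (Over S)) X) (toUnit _)]
            · simp
          rw [e, haX, MonObj.one_comp, one_act, CartesianMonoidalCategory.leftUnitor_hom]
        mul_act := by
          rw [← cancel_mono jj]
          have e1 : (μ[G'] ▷ X) = lift ((fst (G' ⊗ G') X ≫ fst G' G') * (fst (G' ⊗ G') X ≫ snd G' G'))
              (snd (G' ⊗ G') X) := by
            apply CartesianMonoidalCategory.hom_ext
            · rw [whiskerRight_fst, lift_fst, ← MonObj.comp_mul]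
              congr 1
              rw [Hom.mul_def, lift_fst_snd, Category.id_comp]
            · simp
          have e2 : (α_ G' G' X).hom ≫ (G' ◁ aX) = lift (fst (G' ⊗ G') X ≫ fst G' G')
              (lift (fst (G' ⊗ G') X ≫ snd G' G') (snd (G' ⊗ G') X) ≫ aX) := by
            apply CartesianMonoidalCategory.hom_ext
            · simp
            · rw [Category.assoc, whiskerLeft_snd, lift_snd, ← Category.assoc]
              congr 1
              apply CartesianMonoidalCategory.hom_ext <;> simp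
          rw [e1, haX, ← Category.assoc (α_ G' G' X).hom, e2, haX, haX, act_act, mul_comp_hom] }
    have ha : ∀ {T : Over S} (g : T ⟶ G') (x : T ⟶ X), act a g x ≫ jj = act P.act (g ≫ u) (x ≫ jj) := haX
    refine ⟨⟨X, a, ?_, ?_⟩, jj, ?_⟩
    · have hex' : ∀ {T : Over S} (p q : T ⟶ X), ∃ g, act a g q = p := fun {T} p q => by
        have e : act P.act (div P.isTorsor.1 (p ≫ jj) (q ≫ jj)) (q ≫ jj) = p ≫ jj := act_div _ _ _
        have e2 := congrArg (· ≫ φ) e
        simp only [pt_equivariant hφ, trivialAction_pt, hjj, _root_.mul_one] at e2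
        obtain ⟨g, hg⟩ := exact_eq_mul hex (a := (1 : T ⟶ G)) (b := div P.isTorsor.1 (p ≫ jj) (q ≫ jj))
          (by rw [MonObj.one_comp, e2])
        rw [_root_.one_mul] at hg
        exact ⟨g, by rw [← cancel_mono jj, ha, hg, e]⟩
      have huniq : ∀ {T : Over S} (g g' : T ⟶ G') (q : T ⟶ X), act a g q = act a g' q → g = g' :=
        fun {T} g g' q e => by
          rw [← cancel_mono jj, ha, ha] at e
          have e2 := congrArg (fun r => div P.isTorsor.1 r (q ≫ jj)) e
          simp only [div_act] at e2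
          exact exact_injective hex e2
      obtain ⟨g, hg⟩ := hex' (fst X X) (snd X X)
      have hact : ∀ {T : Over S} (m : T ⟶ G' ⊗ X), m ≫ a.act = act a (m ≫ fst _ _) (m ≫ snd _ _) := fun m => by
        rw [← comp_act, act, lift_fst_snd, Category.id_comp]
      refine ⟨⟨lift g (snd X X), ?_, ?_⟩⟩
      · apply CartesianMonoidalCategory.hom_ext
        · rw [Category.assoc, lift_fst, Category.id_comp]
          refine huniq _ _ (snd G' X) ?_
          rw [show lift a.act (snd G' X) ≫ g = lift a.act (snd G' X) ≫ g from rfl]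
          have e := congrArg (lift a.act (snd G' X) ≫ ·) hg
          simp only [comp_act, lift_fst, lift_snd] at e
          rw [e, act, lift_fst_snd, Category.id_comp]
        · simp
      · apply CartesianMonoidalCategory.hom_ext
        · rw [Category.assoc, lift_fst, Category.id_comp]; exact hg
        · simp
    · obtain ⟨κ, W, z, hz, hsec⟩ := exists_cover P.isTorsor.2
      choose KK' W' w hw b hb using fun k => exists_local_lift hex ((hsec k).some ≫ φ)
      refine ⟨Presieve.ofArrows (fun p : Σ k, KK' k => (W' p.1 p.2).left) (fun p => (w p.1 p.2).left ≫ z p.1),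
        Precoverage.comp_mem_coverings z hz (fun k l => (w k l).left) hw, ?_⟩
      rintro _ _ ⟨⟨k, l⟩⟩
      let x : W' k l ⟶ P.X := act P.act (b k l)⁻¹ (w k l ≫ (hsec k).some)
      have hx : x ≫ φ = 1 := by
        rw [pt_equivariant hφ, trivialAction_pt, Category.assoc, ← hb k l, GrpObj.inv_comp, inv_mul_cancel]
      refine ⟨(pullback.lift x (toUnit _) (by rw [hx, hone]) : W' k l ⟶ X).left, ?_⟩
      show _ = (w k l).left ≫ z k
      rw [Over.w, ← Over.w (w k l)]
      rfl
    · show a.act ≫ jj = act P.act (fst G' X ≫ u) (snd G' X ≫ jj)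
      exact pullback.lift_fst _ _ _
  · rintro ⟨Q, q', hq'⟩
    have h1 : Q.act.act ≫ (1 : Q.X ⟶ G'') = act (NonAbH1.trivialAction G'') (fst G' Q.X ≫ u ≫ v)
        (snd G' Q.X ≫ 1) := by
      rw [trivialAction_pt, hex.2.2.1, MonObj.comp_one, MonObj.comp_one, MonObj.comp_one, _root_.one_mul]
    obtain ⟨r, ⟨hr, -⟩, -⟩ := existsUnique_push u v Q.isTorsor P.isTorsor.1 q' hq' (1 : Q.X ⟶ G'') h1
    exact ⟨r, hr⟩

end Groth.Agent.TorsorDesc
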